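import Mathlib.FieldTheory.Galois.Basic
import Mathlib.RingTheory.Trace.Basic
import Mathlib.LinearAlgebra.Dual.Lemmas

/-!
Galois descent for semilinear actions of a finite Galois group, with no finiteness on the space.
-/

universe u v w

namespace Groth.Agent.GalCoh25

variable {K : Type u} {L : Type v} [Field K] [Field L] [Algebra K L] [FiniteDimensional K L]
variable {V : Type w} [AddCommGroup V] [Module L V]

/-- A semilinear action. -/
structure IsSemilinearAction (ρ : (L ≃ₐ[K] L) → V → V) : Prop where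
  one : ∀ v, ρ 1 v = v
  mul : ∀ σ τ v, ρ (σ * τ) v = ρ σ (ρ τ v)
  add : ∀ σ v w, ρ σ (v + w) = ρ σ v + ρ σ w
  semi : ∀ σ (c : L) v, ρ σ (c • v) = σ c • ρ σ v

variable {ρ : (L ≃ₐ[K] L) → V → V}

lemma IsSemilinearAction.sum (h : IsSemilinearAction ρ) {ι : Type*} (s : Finset ι) (f : ι → V)
    (σ : L ≃ₐ[K] L) : ρ σ (∑ i ∈ s, f i) = ∑ i ∈ s, ρ σ (f i) :=
  map_sum (AddMonoidHom.mk' (ρ σ) (h.add σ)) f s

lemma IsSemilinearAction.fixed_norm (h : IsSemilinearAction ρ) (v : V) (τ : L ≃ₐ[K] L) :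
    ρ τ (∑ σ, ρ σ v) = ∑ σ, ρ σ v := by
  rw [h.sum]
  simp_rw [← h.mul]
  exact Equiv.sum_comp (Equiv.mulLeft τ) (fun σ => ρ σ v)

theorem span_fixed_eq_top (h : IsSemilinearAction ρ) :
    Submodule.span L {v | ∀ σ, ρ σ v = v} = ⊤ := by
  by_contra hne
  obtain ⟨φ, hφ0, hle⟩ := Submodule.exists_le_ker_of_lt_top _ (lt_top_iff_ne_top.mpr hne)
  apply hφ0
  ext v
  have h0 : ∀ σ : L ≃ₐ[K] L, φ (ρ σ v) = 0 := by
    have hli := (linearIndependent_monoidHom L L).comp
      (fun σ : L ≃ₐ[K] L => (σ.toAlgHom : L →* L))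
      (fun σ τ hst => AlgEquiv.ext fun x => DFunLike.congr_fun hst x)
    refine Fintype.linearIndependent_iff.mp hli _ ?_
    funext c
    have hmem : ∑ σ, ρ σ (c • v) ∈ Submodule.span L {v | ∀ σ, ρ σ v = v} :=
      Submodule.subset_span (h.fixed_norm (c • v))
    have := hle hmem
    simp only [LinearMap.mem_ker, map_sum, h.semi, map_smul, smul_eq_mul] at this
    simpa [Finset.sum_apply, mul_comm] using this
  simpa [h.one] using h0 1

variable [IsGalois K L]

theorem linearIndependent_of_fixed [Module K V] [IsScalarTower K L V] (h : IsSemilinearAction ρ)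
    {ι : Type*} (v : ι → V) (hv : ∀ i σ, ρ σ (v i) = v i) (hli : LinearIndependent K v) :
    LinearIndependent L v := by
  rw [linearIndependent_iff'] at hli ⊢
  intro s c hc i hi
  have key : ∀ x : L, ∀ j ∈ s, Algebra.trace K L (x * c j) = 0 := by
    intro x
    apply hli s
    have : ∑ σ, ρ σ (x • ∑ j ∈ s, c j • v j) = 0 := by
      rw [hc, smul_zero]
      refine Finset.sum_eq_zero fun σ _ => ?_
      simpa using h.semi σ (0 : L) (0 : V)
    simp_rw [Finset.smul_sum, smul_smul, h.sum, h.semi, hv] at this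
    rw [Finset.sum_comm] at this
    simp_rw [← Finset.sum_smul, ← trace_eq_sum_automorphisms, algebraMap_smul] at this
    exact this
  have hnd := traceForm_nondegenerate K L
  exact hnd.1 (c i) fun x => by rw [Algebra.traceForm_apply, mul_comm]; exact key x i hi

end Groth.Agent.GalCoh25
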