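import Groth.Prelude.Def_GalDesc
import Groth.Agent.Lib.GalCoh25.Descent
import Mathlib.FieldTheory.Galois.Basic
import Mathlib.RingTheory.TensorProduct.Basic
import Mathlib.LinearAlgebra.TensorProduct.Basis
import Mathlib.LinearAlgebra.TensorProduct.Tower

/-!
Galois descent in the language of `GalDesc`: descended equivalences, fixed points of `K ⊗[k] W`,
cocycles of composite isomorphisms.
-/

universe u v w x y

open scoped TensorProduct

namespace Groth.Agent.GalCoh25

variable {k : Type u} [Field k] {K : Type v} [Field K] [Algebra k K]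

section Fixed

variable [FiniteDimensional k K] [IsGalois k K] {W : Type x} [AddCommGroup W] [Module k W]

theorem exists_tmul_of_fixed (z : K ⊗[k] W) (hz : ∀ σ : K ≃ₐ[k] K, σ • z = z) :
    ∃ w : W, z = (1 : K) ⊗ₜ[k] w := by
  classical
  obtain ⟨b⟩ := Module.Free.exists_basis (R := k) (M := W)
  let e := TensorProduct.equivFinsuppOfBasisRight (M := K) b.2
  have he : ∀ (σ : K ≃ₐ[k] K) (z : K ⊗[k] W) i, e (σ • z) i = σ (e z i) := by
    intro σ z i
    induction z using TensorProduct.induction_on with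
    | zero => simp
    | tmul a w => rw [TensorProduct.smul_tmul', AlgEquiv.smul_def]; simp [e]
    | add z z' hz hz' => simp [smul_add, hz, hz']
  have hmem : ∀ i, e z i ∈ Set.range (algebraMap k K) := fun i => by
    rw [IsGalois.mem_range_algebraMap_iff_fixed]
    intro σ; rw [← he, hz]
  choose r hr using hmem
  refine ⟨∑ i ∈ (e z).support, r i • b.2 i, ?_⟩
  conv_lhs => rw [← e.symm_apply_apply z, TensorProduct.equivFinsuppOfBasisRight_symm_apply]
  rw [TensorProduct.tmul_sum, Finsupp.sum]
  refine Finset.sum_congr rfl fun i _ => ?_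
  rw [TensorProduct.tmul_smul, TensorProduct.smul_tmul', ← hr i, Algebra.algebraMap_eq_smul_one]

omit [FiniteDimensional k K] [IsGalois k K] in
theorem one_tmul_injective : Function.Injective (fun w : W => (1 : K) ⊗ₜ[k] w) := by
  classical
  intro v w h
  obtain ⟨b⟩ := Module.Free.exists_basis (R := k) (M := W)
  refine b.2.repr.injective (Finsupp.ext fun i => (algebraMap k K).injective ?_)
  have := congr(TensorProduct.equivFinsuppOfBasisRight (M := K) b.2 $h i)
  simpa [Algebra.algebraMap_eq_smul_one] using this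

variable {W' : Type y} [AddCommGroup W'] [Module k W']

theorem exists_descend (f : K ⊗[k] W ≃ₗ[K] K ⊗[k] W')
    (hf : ∀ (σ : K ≃ₐ[k] K) z, f (σ • z) = σ • f z) :
    ∃ e : W ≃ₗ[k] W', ∀ w, f ((1 : K) ⊗ₜ[k] w) = (1 : K) ⊗ₜ[k] e w := by
  have h1 : ∀ w : W, ∃ w' : W', f ((1 : K) ⊗ₜ[k] w) = (1 : K) ⊗ₜ[k] w' := fun w =>
    exists_tmul_of_fixed _ fun σ => by rw [← hf, TensorProduct.smul_tmul', smul_one]
  have h2 : ∀ w : W', ∃ w' : W, f.symm ((1 : K) ⊗ₜ[k] w) = (1 : K) ⊗ₜ[k] w' := fun w =>
    exists_tmul_of_fixed _ fun σ => f.injective (by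
      rw [hf, f.apply_symm_apply, TensorProduct.smul_tmul', smul_one])
  choose p hp using h1
  choose q hq using h2
  refine ⟨{ toFun := p, invFun := q, map_add' := fun a b => one_tmul_injective (k := k) (K := K) (W := W') ?_,
            map_smul' := fun c a => one_tmul_injective (k := k) (K := K) (W := W') ?_,
            left_inv := fun a => one_tmul_injective (k := k) (K := K) (W := W) ?_,
            right_inv := fun a => one_tmul_injective (k := k) (K := K) (W := W') ?_ }, hp⟩
  · simp only [← hp, TensorProduct.tmul_add, map_add]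
  · simp only [← hp, RingHom.id_apply, TensorProduct.tmul_smul]
    exact f.toLinearMap.map_smul_of_tower c _
  · simp only [← hq, ← hp, LinearEquiv.symm_apply_apply]
  · simp only [← hp, ← hq, LinearEquiv.apply_symm_apply]

end Fixed

section Cocycle

variable {M : Type w} {N : Type x} {N' : Type y}
  [AddCommGroup M] [Module K M] [DistribMulAction (K ≃ₐ[k] K) M] [SMulDistribClass (K ≃ₐ[k] K) K M]
  [AddCommGroup N] [Module K N] [DistribMulAction (K ≃ₐ[k] K) N] [SMulDistribClass (K ≃ₐ[k] K) K N]
  [AddCommGroup N'] [Module K N'] [DistribMulAction (K ≃ₐ[k] K) N'] [SMulDistribClass (K ≃ₐ[k] K) K N']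

/-- `g`, `g'` with cohomologous cocycles via `c` differ by an equivariant `f = g' c g⁻¹`, and conversely. -/
theorem cocycle_eq_iff (g : M ≃ₗ[K] N) (g' : M ≃ₗ[K] N') (c : M ≃ₗ[K] M) :
    (∀ σ : K ≃ₐ[k] K, GalDesc.cocycle k g σ = c⁻¹ * GalDesc.cocycle k g' σ * σ • c) ↔
      ∀ (σ : K ≃ₐ[k] K) (z : N), g' (c (g.symm (σ • z))) = σ • g' (c (g.symm z)) := by
  constructor
  · intro h σ z
    have := LinearEquiv.congr_fun (h σ) (σ • g.symm z)
    rw [GalDesc.cocycle_apply, inv_smul_smul, g.apply_symm_apply, LinearEquiv.mul_apply, LinearEquiv.mul_apply,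
      GalDesc.conj_smul_apply, inv_smul_smul, GalDesc.cocycle_apply, inv_smul_smul] at this
    rw [this]
    exact (congrArg g' (c.apply_symm_apply _)).trans (g'.apply_symm_apply _)
  · intro h σ
    ext m
    rw [GalDesc.cocycle_apply, LinearEquiv.mul_apply, LinearEquiv.mul_apply, GalDesc.conj_smul_apply,
      GalDesc.cocycle_apply, inv_smul_smul]
    apply c.injective
    apply g'.injective
    rw [h, g.symm_apply_apply]
    exact ((congrArg g' (c.apply_symm_apply _)).trans (g'.apply_symm_apply _)).symm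

end Cocycle

section Twist

variable {M : Type w} [AddCommGroup M] [Module K M] [Module k M] [IsScalarTower k K M]
  [DistribMulAction (K ≃ₐ[k] K) M] [SMulDistribClass (K ≃ₐ[k] K) K M]

omit [Module k M] [IsScalarTower k K M] in
theorem isSemilinearAction_twist [FiniteDimensional k K]
    (a : GpH1.OneCocycle (K ≃ₐ[k] K) (M ≃ₗ[K] M)) :
    IsSemilinearAction (fun (σ : K ≃ₐ[k] K) (z : M) => a σ (σ • z)) := by
  have h1 : a 1 = 1 := by
    have h := a.2 1 1
    rw [mul_one, one_smul] at h
    exact left_eq_mul.mp h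
  refine ⟨fun v => by simp [h1], fun σ τ v => ?_, fun σ v v' => by simp [smul_add], fun σ c v => ?_⟩
  · show a (σ * τ) ((σ * τ) • v) = a σ (σ • a τ (τ • v))
    rw [a.2 σ τ, LinearEquiv.mul_apply, GalDesc.conj_smul_apply, mul_smul, inv_smul_smul]
  · show a σ (σ • c • v) = σ c • a σ (σ • v)
    rw [smul_distrib_smul σ c v, map_smul, AlgEquiv.smul_def]

variable [FiniteDimensional k K] [IsGalois k K] {W : Type x} [AddCommGroup W] [Module k W]

theorem exists_descentEquiv (a : GpH1.OneCocycle (K ≃ₐ[k] K) (M ≃ₗ[K] M)) (ι : W →ₗ[k] M)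
    (hι : Function.Injective ι) (hW : ∀ z, z ∈ Set.range ι ↔ ∀ σ, a σ (σ • z) = z) :
    ∃ g : M ≃ₗ[K] K ⊗[k] W, (∀ (c : K) (z : W), g.symm (c ⊗ₜ[k] z) = c • ι z) ∧
      GalDesc.cocycle k g = a := by
  classical
  have h := isSemilinearAction_twist a
  let φ : K ⊗[k] W →ₗ[K] M := ι.liftBaseChange K
  obtain ⟨b⟩ := Module.Free.exists_basis (R := k) (M := W)
  have hli : LinearIndependent K (fun i => ι (b.2 i)) :=
    linearIndependent_of_fixed h _ (fun i σ => (hW _).mp ⟨_, rfl⟩ σ)
      (b.2.linearIndependent.map' ι (LinearMap.ker_eq_bot.mpr hι))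
  have hφ : ∀ (c : K) (z : W), φ (c ⊗ₜ[k] z) = c • ι z := fun c z => by simp [φ]
  have hinj : Function.Injective φ := by
    intro z z' hzz
    apply (Algebra.TensorProduct.basis K b.2).repr.injective
    apply hli.finsuppLinearCombination_injective
    have : ∀ z, Finsupp.linearCombination K (fun i => ι (b.2 i)) ((Algebra.TensorProduct.basis K b.2).repr z) = φ z := by
      intro z
      conv_rhs => rw [← (Algebra.TensorProduct.basis K b.2).linearCombination_repr z, Finsupp.apply_linearCombination]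
      congr 2
      funext i
      simp [hφ]
    rw [this, this, hzz]
  have hsurj : Function.Surjective φ := by
    rw [← LinearMap.range_eq_top, eq_top_iff, ← span_fixed_eq_top h, Submodule.span_le]
    intro z hz
    obtain ⟨w, rfl⟩ := (hW z).mpr hz
    exact ⟨(1 : K) ⊗ₜ[k] w, by simp [hφ]⟩
  let e := LinearEquiv.ofBijective φ ⟨hinj, hsurj⟩
  refine ⟨e.symm, fun c z => hφ c z, ?_⟩
  refine GpH1.OneCocycle.ext fun σ => LinearEquiv.ext fun m => ?_
  rw [GalDesc.cocycle_apply]
  have key : ∀ z, φ (σ • z) = a σ (σ • φ z) := by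
    intro z
    induction z using TensorProduct.induction_on with
    | zero => simp
    | tmul c w =>
      rw [TensorProduct.smul_tmul', hφ, hφ, smul_distrib_smul σ c (ι w), map_smul, (hW _).mp ⟨w, rfl⟩ σ]
    | add z z' hz hz' => simp [smul_add, hz, hz']
  show φ (σ • e.symm (σ⁻¹ • m)) = a σ m
  rw [key, show φ (e.symm (σ⁻¹ • m)) = σ⁻¹ • m from e.apply_symm_apply _, smul_inv_smul]

end Twist

end Groth.Agent.GalCoh25
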