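import Mathlib.FieldTheory.Galois.Infinite
import Mathlib.FieldTheory.Galois.Profinite
import Mathlib.FieldTheory.IsSepClosed
import Mathlib.Topology.LocallyConstant.Basic

/-!
A locally constant map on an absolute Galois group factors through a finite Galois subextension.
-/

universe u v w

namespace Groth.Agent.GalCoh25

variable {K : Type u} {L : Type v} [Field K] [Field L] [Algebra K L] [IsGalois K L] {X : Type w}

theorem exists_finite_normal_const (a : (L ≃ₐ[K] L) → X) (ha : IsLocallyConstant a) :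
    ∃ F : IntermediateField K L, FiniteDimensional K F ∧ IsGalois K F ∧
      ∀ σ τ : L ≃ₐ[K] L, σ⁻¹ * τ ∈ F.fixingSubgroup → a σ = a τ := by
  classical
  have hloc : ∀ σ : L ≃ₐ[K] L, ∃ E : IntermediateField K L, FiniteDimensional K E ∧ Normal K E ∧
      ∀ n ∈ E.fixingSubgroup, a (σ * n) = a σ := by
    intro σ
    have h1 : (fun n => σ * n) ⁻¹' (a ⁻¹' {a σ}) ∈ nhds (1 : L ≃ₐ[K] L) :=
      ((ha _).preimage (continuous_const_mul σ)).mem_nhds (by simp)
    obtain ⟨E, hE1, hE2, hE3⟩ := (krullTopology_mem_nhds_one_iff_of_normal K L _).mp h1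
    exact ⟨E, hE1, hE2, fun n hn => hE3 hn⟩
  choose E hE1 hE2 hE3 using hloc
  obtain ⟨t, ht⟩ := isCompact_univ.elim_finite_subcover
    (fun σ : L ≃ₐ[K] L => (fun x => σ⁻¹ * x) ⁻¹' ((E σ).fixingSubgroup : Set (L ≃ₐ[K] L)))
    (fun σ => haveI := hE1 σ; ((E σ).fixingSubgroup_isOpen).preimage (continuous_const_mul σ⁻¹))
    (fun σ _ => Set.mem_iUnion.mpr ⟨σ, by simp [(E σ).fixingSubgroup.one_mem]⟩)
  let F : IntermediateField K L := t.sup E
  have hEF : ∀ σ ∈ t, E σ ≤ F := fun σ hσ => Finset.le_sup hσ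
  have hfin : FiniteDimensional K F := by
    suffices ∀ s : Finset (L ≃ₐ[K] L), FiniteDimensional K ↥(s.sup E) from this t
    intro s
    induction s using Finset.induction with
    | empty => rw [Finset.sup_empty]; infer_instance
    | @insert b s hb ih =>
      rw [Finset.sup_insert]
      haveI := hE1 b
      exact IntermediateField.finiteDimensional_sup _ _
  have hnorm : Normal K F := by
    suffices ∀ s : Finset (L ≃ₐ[K] L), Normal K ↥(s.sup E) from this t
    intro s
    induction s using Finset.induction with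
    | empty => rw [Finset.sup_empty]; infer_instance
    | @insert b s hb ih =>
      rw [Finset.sup_insert]
      haveI := hE2 b
      exact IntermediateField.normal_sup K L _ _
  refine ⟨F, hfin, ⟨⟩, fun σ τ h => ?_⟩
  obtain ⟨s, hs, hσ⟩ := Set.mem_iUnion₂.mp (ht (Set.mem_univ σ))
  have h1 : a σ = a s := by
    have := hE3 s _ hσ
    rwa [mul_inv_cancel_left] at this
  have h2 : a τ = a s := by
    have hn : s⁻¹ * τ ∈ (E s).fixingSubgroup := by
      have := (E s).fixingSubgroup.mul_mem hσ (IntermediateField.fixingSubgroup_antitone (hEF s hs) h)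
      rwa [mul_assoc, mul_inv_cancel_left] at this
    have := hE3 s _ hn
    rwa [mul_inv_cancel_left] at this
  rw [h1, h2]

/-- A 1-cocycle (for a family of maps `act σ`) descends to a finite Galois level with invariant values. -/
theorem exists_finite_level (act : (L ≃ₐ[K] L) → X → X) (op : X → X → X) (e : X)
    (hop : ∀ x, op e x = x) (hcancel : ∀ x y, op x y = x → y = e) (hact1 : ∀ x, act 1 x = x)
    (a : (L ≃ₐ[K] L) → X) (hlc : IsLocallyConstant a) (ha : ∀ σ τ, a (σ * τ) = op (a σ) (act σ (a τ))) :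
    ∃ F : IntermediateField K L, FiniteDimensional K F ∧ IsGalois K F ∧
      (∀ n ∈ F.fixingSubgroup, ∀ τ, act n (a τ) = a τ) ∧
      ∀ σ τ : L ≃ₐ[K] L, (∀ x : F, σ x = τ x) → a σ = a τ := by
  obtain ⟨F, hF, hG, hc⟩ := exists_finite_normal_const a hlc
  have h1 : a 1 = e := by
    have := ha 1 1
    rw [mul_one, hact1] at this
    exact hcancel _ _ this.symm
  have hn1 : ∀ n ∈ F.fixingSubgroup, a n = e := fun n hn => by rw [← hc 1 n (by simpa using hn), h1]
  refine ⟨F, hF, hG, fun n hn τ => ?_, fun σ τ h => hc σ τ ?_⟩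
  · have hh := hc τ (n * τ) ?_
    · rw [ha n τ, hn1 n hn, hop] at hh; exact hh.symm
    · rw [IntermediateField.mem_fixingSubgroup_iff]
      intro x hx
      have hmem : τ x ∈ F := by
        have := (IntermediateField.normal_iff_forall_map_eq'.mp hG.to_normal τ)
        rw [← this]; exact ⟨x, hx, rfl⟩
      show τ⁻¹ (n (τ x)) = x
      rw [(IntermediateField.mem_fixingSubgroup_iff _ _).mp hn _ hmem]
      exact τ.symm_apply_apply x
  · rw [IntermediateField.mem_fixingSubgroup_iff]
    intro x hx
    show σ⁻¹ (τ x) = x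
    rw [← h ⟨x, hx⟩]
    exact σ.symm_apply_apply x

end Groth.Agent.GalCoh25
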