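import Mathlib.LinearAlgebra.Isomorphisms
import Mathlib.LinearAlgebra.Pi
import Mathlib.SetTheory.Cardinal.NatCard
import Mathlib.LinearAlgebra.Quotient.Card

/-!
Cancellation for finite modules (counting homomorphisms, after Lovász):
`Yⁿ ≅ Zⁿ` implies `Y ≅ Z`.
-/

universe u v w x

namespace Groth.Agent.GalCoh25

variable {R : Type u} [Ring R]

/-- Maps with a given kernel are the injections of the quotient. -/
noncomputable def kerEqEquivInj {X : Type v} [AddCommGroup X] [Module R X] {Y : Type w} [AddCommGroup Y]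
    [Module R Y] (N : Submodule R X) :
    {f : X →ₗ[R] Y // f.ker = N} ≃ {g : (X ⧸ N) →ₗ[R] Y // Function.Injective g} where
  toFun f := ⟨N.liftQ f.1 f.2.ge, by
    rw [← LinearMap.ker_eq_bot]; exact Submodule.ker_liftQ_eq_bot' _ _ f.2.symm⟩
  invFun g := ⟨g.1.comp N.mkQ, by rw [LinearMap.ker_comp_of_ker_eq_bot _ (LinearMap.ker_eq_bot.mpr g.2), N.ker_mkQ]⟩
  left_inv f := Subtype.ext (LinearMap.ext fun _ => rfl)
  right_inv g := Subtype.ext (Submodule.linearMap_qext _ (LinearMap.ext fun _ => rfl))

theorem card_hom_eq_sum {X : Type v} [AddCommGroup X] [Module R X] [Finite X] {Y : Type w} [AddCommGroup Y]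
    [Module R Y] [Finite Y] [Fintype (Submodule R X)] :
    Nat.card (X →ₗ[R] Y) = ∑ N : Submodule R X, Nat.card {g : (X ⧸ N) →ₗ[R] Y // Function.Injective g} := by
  haveI : Finite (X →ₗ[R] Y) := Finite.of_injective _ DFunLike.coe_injective
  rw [← Nat.card_congr (Equiv.sigmaFiberEquiv (fun f : X →ₗ[R] Y => f.ker)), Nat.card_sigma]
  exact Finset.sum_congr rfl fun N _ => Nat.card_congr (kerEqEquivInj N)

theorem card_inj_congr {X : Type v} [AddCommGroup X] [Module R X] {X' : Type x} [AddCommGroup X'] [Module R X']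
    {Y : Type w} [AddCommGroup Y] [Module R Y] (e : X ≃ₗ[R] X') :
    Nat.card {g : X →ₗ[R] Y // Function.Injective g} = Nat.card {g : X' →ₗ[R] Y // Function.Injective g} :=
  Nat.card_congr
    { toFun := fun g => ⟨g.1.comp e.symm.toLinearMap, g.2.comp e.symm.injective⟩
      invFun := fun g => ⟨g.1.comp e.toLinearMap, g.2.comp e.injective⟩
      left_inv := fun g => Subtype.ext (LinearMap.ext fun _ => by simp)
      right_inv := fun g => Subtype.ext (LinearMap.ext fun _ => by simp) }

variable {Y : Type w} [AddCommGroup Y] [Module R Y] [Finite Y]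
  {Z : Type x} [AddCommGroup Z] [Module R Z] [Finite Z]

theorem card_inj_eq_of_card_hom_eq
    (h : ∀ (X : Type w) [AddCommGroup X] [Module R X] [Finite X], Nat.card (X →ₗ[R] Y) = Nat.card (X →ₗ[R] Z)) :
    ∀ (m : ℕ) (X : Type w) [AddCommGroup X] [Module R X] [Finite X], Nat.card X = m →
      Nat.card {g : X →ₗ[R] Y // Function.Injective g} = Nat.card {g : X →ₗ[R] Z // Function.Injective g} := by
  intro m
  induction m using Nat.strong_induction_on with
  | _ m ih =>
    intro X _ _ _ hm
    classical
    haveI : Finite (Submodule R X) := Finite.of_injective _ SetLike.coe_injective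
    haveI := Fintype.ofFinite (Submodule R X)
    have key := h X
    rw [card_hom_eq_sum, card_hom_eq_sum, ← Finset.add_sum_erase _ _ (Finset.mem_univ (⊥ : Submodule R X)),
      ← Finset.add_sum_erase _ _ (Finset.mem_univ (⊥ : Submodule R X))] at key
    have hrest : ∀ N ∈ Finset.univ.erase (⊥ : Submodule R X),
        Nat.card {g : (X ⧸ N) →ₗ[R] Y // Function.Injective g} = Nat.card {g : (X ⧸ N) →ₗ[R] Z // Function.Injective g} := by
      intro N hN
      haveI : Finite (X ⧸ N) := Finite.of_surjective _ N.mkQ_surjective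
      refine ih _ ?_ (X ⧸ N) rfl
      rw [← hm, Submodule.card_eq_card_quotient_mul_card N]
      haveI : Nontrivial N := Submodule.nontrivial_iff_ne_bot.mpr (Finset.ne_of_mem_erase hN)
      exact lt_mul_of_one_lt_left Nat.card_pos (Finite.one_lt_card_iff_nontrivial.mpr ‹Nontrivial N›)
    rw [Finset.sum_congr rfl hrest] at key
    have := Nat.add_right_cancel key
    rwa [card_inj_congr (Submodule.quotEquivOfEqBot ⊥ rfl), card_inj_congr (Submodule.quotEquivOfEqBot ⊥ rfl)] at this

theorem nonempty_linearEquiv_of_pow {n : ℕ} (hn : n ≠ 0) (e : (Fin n → Y) ≃ₗ[R] (Fin n → Z)) :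
    Nonempty (Y ≃ₗ[R] Z) := by
  have hcard : Nat.card Y = Nat.card Z := by
    have := Nat.card_congr e.toEquiv
    rw [Nat.card_fun, Nat.card_fun, Nat.card_fin] at this
    exact Nat.pow_left_injective hn this
  have hhom : ∀ (X : Type w) [AddCommGroup X] [Module R X] [Finite X],
      Nat.card (X →ₗ[R] Y) = Nat.card (X →ₗ[R] Z) := by
    intro X _ _ _
    haveI : Finite (X →ₗ[R] Y) := Finite.of_injective _ DFunLike.coe_injective
    haveI : Finite (X →ₗ[R] Z) := Finite.of_injective _ DFunLike.coe_injective
    apply Nat.pow_left_injective hn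
    have e' : (Fin n → (X →ₗ[R] Y)) ≃ (Fin n → (X →ₗ[R] Z)) :=
      { toFun := fun f i => (LinearMap.proj i).comp (e.toLinearMap.comp (LinearMap.pi f))
        invFun := fun f i => (LinearMap.proj i).comp (e.symm.toLinearMap.comp (LinearMap.pi f))
        left_inv := fun f => funext fun i => LinearMap.ext fun x => by
          show e.symm (fun j => e (fun l => f l x) j) i = f i x
          rw [show (fun j => e (fun l => f l x) j) = e (fun l => f l x) from rfl, e.symm_apply_apply]
        right_inv := fun f => funext fun i => LinearMap.ext fun x => by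
          show e (fun j => e.symm (fun l => f l x) j) i = f i x
          rw [show (fun j => e.symm (fun l => f l x) j) = e.symm (fun l => f l x) from rfl, e.apply_symm_apply] }
    have := Nat.card_congr e'
    rwa [Nat.card_fun, Nat.card_fun, Nat.card_fin] at this
  have hinj := card_inj_eq_of_card_hom_eq hhom _ Y rfl
  haveI : Finite (Y →ₗ[R] Y) := Finite.of_injective _ DFunLike.coe_injective
  have hpos : 0 < Nat.card {g : Y →ₗ[R] Y // Function.Injective g} :=
    Nat.card_pos_iff.mpr ⟨⟨⟨LinearMap.id, Function.injective_id⟩⟩, inferInstance⟩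
  rw [hinj] at hpos
  obtain ⟨⟨g, hg⟩⟩ := (Nat.card_pos_iff.mp hpos).1
  exact ⟨LinearEquiv.ofBijective g ((Nat.bijective_iff_injective_and_card g).mpr ⟨hg, hcard⟩)⟩

end Groth.Agent.GalCoh25
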